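import Cfsg.Agent.OddLocal.Bender
import Cfsg.Agent.S3743
import Cfsg.Agent.Comp.Basic
import Cfsg.Agent.CharP.YMinimal
import Cfsg.Agent.Kinf.Leibniz
import Cfsg.Prelude.Def_CaseTheorems

/-!
A maximal local subgroup whose Fitting subgroup involves two primes: coprime invariant subgroups.
-/

set_option autoImplicit false
set_option linter.style.haveILetI false
set_option linter.unusedSectionVars false

namespace CfsgLib.MaxLocalFitting

open Subgroup Cfsg CfsgLib.OddLocal CfsgLib.OddLocal.Bender
open scoped commutatorElement Pointwise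

variable {G : Type*} [Group G] [Finite G]

theorem characteristic_piCore {X : Type*} [Group X] (π : Set ℕ) :
    (Cfsg.piCore π X).Characteristic := by
  rw [characteristic_iff_map_le]
  intro φ
  rw [map_le_iff_le_comap]
  refine sSup_le fun N hN => ?_
  rw [← map_le_iff_le_comap]
  refine le_sSup ⟨hN.1.map _ φ.surjective, fun q hq hd => hN.2 q hq ?_⟩
  rwa [card_map_of_injective (f := φ.toMonoidHom) φ.injective] at hd

/-- Conjugation by a normalizing element maps the image of a characteristic subgroup to itself. -/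
theorem le_normalizer_map_char {R : Subgroup G} (W : Subgroup R) [W.Characteristic] :
    normalizer (R : Set G) ≤ normalizer (W.map R.subtype : Set G) := fun g hg => by
  refine YMinimal.mem_normalizer_of_conj_le ?_
  rintro _ ⟨_, ⟨w, hw, rfl⟩, rfl⟩
  let e : R ≃* R :=
    { toFun := fun x => ⟨g * x.1 * g⁻¹, (mem_normalizer_iff.1 hg _).1 x.2⟩
      invFun := fun x => ⟨g⁻¹ * x.1 * g, (mem_normalizer_iff''.1 hg _).1 x.2⟩
      left_inv := fun x => Subtype.ext (by simp [mul_assoc])
      right_inv := fun x => Subtype.ext (by simp [mul_assoc])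
      map_mul' := fun x y => Subtype.ext (by simp [mul_assoc]) }
  exact ⟨e w, characteristic_iff_map_le.1 inferInstance e (mem_map_of_mem _ hw), rfl⟩

/-- The preimage of a characteristic subgroup of a characteristic quotient is characteristic. -/
theorem comap_char {X : Type*} [Group X] (N : Subgroup X) [N.Characteristic] (W : Subgroup (X ⧸ N))
    [W.Characteristic] : (W.comap (QuotientGroup.mk' N)).Characteristic := by
  rw [characteristic_iff_map_le]
  rintro φ _ ⟨x, hx, rfl⟩
  have he : N.map φ.toMonoidHom = N := characteristic_iff_map_eq.1 inferInstance φ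
  let ψ : X ⧸ N ≃* X ⧸ N := QuotientGroup.congr N N φ he
  have h : ψ (QuotientGroup.mk' N x) ∈ W :=
    characteristic_iff_map_le.1 inferInstance ψ (mem_map_of_mem _ (mem_comap.1 hx))
  exact h

variable (H : Subgroup G) (hH : Cfsg.IsLocalSubgroup H)
  (hHmax : ∀ L : Subgroup G, Cfsg.IsLocalSubgroup L → H ≤ L → L = H)
  (M : Subgroup G) (hM : M ≤ fittingOf H)
  (hCM : fittingOf H ⊓ centralizer (M : Set G) ≤ M)
  (R : Subgroup G) (hR : Group.IsSolvable R) (hMR : M ≤ normalizer (R : Set G))
  (hXR : H ⊓ centralizer (fittingOf H : Set G) ≤ normalizer (R : Set G))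
include hM hCM

omit [Finite G] in
theorem zc_le_M [Finite G] {r : ℕ} [Fact r.Prime] : zc r H ≤ M := fun z hz =>
  hCM ⟨qc_le_fitting H hz.1, centralizer_le hM hz.2⟩

omit hCM in
theorem M_le : M ≤ H := hM.trans (fitting_le H)

include hHmax

omit hM hCM in
theorem centralizer_zc_le {r : ℕ} [Fact r.Prime] (hr : r ∣ Nat.card (fittingOf H)) :
    centralizer (zc r H : Set G) ≤ H := by
  have h := hHmax _ ⟨r, zc r H, Fact.out, (isPGroup_qc H).to_le (zc_le H),
    zc_ne_bot (qc_ne_bot hr), rfl⟩ (le_normalizer_zc H)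
  exact (Subgroup.centralizer_le_normalizer _).trans h.le

theorem centralizer_M_le {r : ℕ} [Fact r.Prime] (hr : r ∣ Nat.card (fittingOf H)) :
    centralizer (M : Set G) ≤ H :=
  (centralizer_le (zc_le_M H M hM hCM (r := r))).trans (centralizer_zc_le H hHmax hr)

omit hHmax in
include hR hXR in
/-- A solvable subgroup normalized by `C_H(F)` meets it inside `F`. -/
theorem inf_le_fitting :
    R ⊓ (H ⊓ centralizer (fittingOf H : Set G)) ≤ fittingOf H := by
  set F := fittingOf H
  set X := H ⊓ centralizer (F : Set G)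
  haveI := hR
  have key : ∀ S : Subgroup G, S ≤ R ⊓ X → X ≤ normalizer (S : Set G) → Group.IsSolvable S →
      S ≤ F := by
    intro S
    induction hn : Nat.card S using Nat.strong_induction_on generalizing S with
    | _ n ih => ?_
    intro hSX hS hsol
    rcases eq_or_ne S ⊥ with rfl | hS1
    · exact bot_le
    have hlt : ⁅S, S⁆ < S := by
      refine lt_of_le_of_ne (commutator_le.2 fun a ha b hb =>
        mul_mem (mul_mem (mul_mem ha hb) (inv_mem ha)) (inv_mem hb)) fun he => ?_
      haveI := hsol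
      haveI : Nontrivial S := (nontrivial_iff_ne_bot S).2 hS1
      refine (Group.IsSolvable.commutator_lt_top_of_nontrivial S).ne
        (map_injective S.subtype_injective ?_)
      rw [map_subtype_commutator, he, ← MonoidHom.range_eq_map, range_subtype]
    have hD : ⁅S, S⁆ ≤ F := by
      refine ih _ (hn ▸ Solvable.card_lt_of_lt hlt) _ rfl (hlt.le.trans hSX) (fun g hg => ?_) ?_
      · refine YMinimal.mem_normalizer_of_conj_le ?_
        rw [Subgroup.map_commutator, YMinimal.conj_eq_self (hS hg)]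
      · exact Group.isSolvable_of_isSolvable_injective (inclusion_injective hlt.le)
    have hSnil : Group.IsNilpotent S := by
      refine (Subgroup.isNilpotent_iff_lowerCentralSeries S).2 ⟨2, ?_⟩
      show ⁅⁅S, S⁆, S⁆ = ⊥
      rw [commutator_eq_bot_iff_le_centralizer]
      exact hD.trans (le_centralizer_iff.1 ((hSX.trans inf_le_right).trans inf_le_right))
    refine (le_fitting (hSX.trans inf_le_right) hS hSnil).trans (le_fitting
      ((fitting_le X).trans inf_le_left) ?_ (nilpotent_fitting X))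
    have hXn : H ≤ normalizer (X : Set G) := le_trans (le_inf le_normalizer
      ((le_normalizer_fitting H).trans (TH.normalizer_le_normalizer_centralizer _)))
      inf_normalizer_le_normalizer_inf
    haveI := Comp.fitting_characteristic (G := X)
    exact hXn.trans (le_normalizer_map_char (fittingSubgroup X))
  refine key _ le_rfl ?_ (Group.isSolvable_of_isSolvable_injective (inclusion_injective inf_le_left))
  exact le_trans (le_inf hXR le_normalizer) inf_normalizer_le_normalizer_inf

include hR hXR in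
/-- Coprime elements of `R` centralizing `M` are trivial. -/
theorem eq_one_of_centralizing {r : ℕ} [Fact r.Prime] (hr : r ∣ Nat.card (fittingOf H)) {x : G}
    (hx : x ∈ R) (hxM : x ∈ centralizer (M : Set G))
    (ho : (orderOf x).Coprime (Nat.card (fittingOf H))) : x = 1 := by
  have hxH := centralizer_M_le H hHmax M hM hCM hr hxM
  have hxF := Uniq.centralizes_nilpotent (nilpotent_fitting H) hM hCM hxM
    (le_normalizer_fitting H hxH) ho
  exact orderOf_eq_one_iff.1 (Nat.eq_one_of_dvd_coprimes ho dvd_rfl ((fittingOf H).orderOf_dvd_natCard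
    (inf_le_fitting H M hM hCM R hR hXR ⟨hx, hxH, hxF⟩)))

include hR hXR in
/-- An `M`-invariant subgroup of `R` of order prime to `|F|` meets `H` trivially. -/
theorem inf_eq_bot {r : ℕ} [Fact r.Prime] (hr : r ∣ Nat.card (fittingOf H)) {Y : Subgroup G}
    (hYR : Y ≤ R) (hMY : M ≤ normalizer (Y : Set G))
    (hY : (Nat.card Y).Coprime (Nat.card (fittingOf H))) : Y ⊓ H = ⊥ := by
  refine eq_bot_iff.2 fun y hy => ?_
  refine mem_bot.2 (eq_one_of_centralizing H hHmax M hM hCM R hR hXR hr (hYR hy.1) ?_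
    (hY.coprime_dvd_left (Y.orderOf_dvd_natCard hy.1)))
  refine mem_centralizer_iff.2 fun m hm => commutatorElement_eq_one_iff_mul_comm.1 ?_
  have h1 : ⁅m, y⁆ ∈ Y := mul_mem ((mem_normalizer_iff.1 (hMY hm) y).1 hy.1) (inv_mem hy.1)
  have h2 : ⁅m, y⁆ ∈ fittingOf H := by
    have := mul_mem (hM hm) ((mem_normalizer_iff.1 (le_normalizer_fitting H hy.2) m⁻¹).1
      (inv_mem (hM hm)))
    simpa [commutatorElement_def, mul_assoc] using this
  exact mem_bot.1 (Subgroup.inf_eq_bot_of_coprime hY ▸ ⟨h1, h2⟩)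

/-- An `M`-invariant `p`-subgroup lies in `H`, centralized by the other centres. -/
theorem zc_centralizes {p r : ℕ} [Fact p.Prime] [Fact r.Prime] (hpr : p ≠ r)
    (hp : p ∣ Nat.card (fittingOf H)) {P : Subgroup G} (hP : IsPGroup p P)
    (hMP : M ≤ normalizer (P : Set G)) : zc r H ≤ centralizer (P : Set G) := by
  intro z hz
  have hcp := IsPGroup.coprime_card_of_ne r p (Ne.symm hpr) (qc r H) (zc p H) (isPGroup_qc H)
    ((isPGroup_qc H).to_le (zc_le H))
  have ho : (orderOf z).Coprime p := by
    obtain ⟨k, hk⟩ := IsPGroup.iff_card.1 (isPGroup_qc (s := r) H)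
    obtain ⟨j, -, hj⟩ := (Nat.dvd_prime_pow Fact.out).1 (hk ▸ (qc r H).orderOf_dvd_natCard hz.1)
    rw [hj]
    exact ((Nat.coprime_primes Fact.out Fact.out).2 (Ne.symm hpr)).pow_left j
  refine mem_centralizer_iff.2 fun x hx => ?_
  refine (LocalB.commute_of_pxq ((isPGroup_qc (s := p) H).to_le (zc_le H)) hP
    ((zc_le_M H M hM hCM).trans hMP) ho (hMP (zc_le_M H M hM hCM hz)) (fun π hπ => ?_) ?_ x hx).symm
  · exact (mem_centralizer_iff.1 hπ.2 z (qc_le_fitting H hz.1)).symm
  · intro y hy hyc
    have hyH : y ∈ H := centralizer_zc_le H hHmax hp (mem_centralizer_iff.2 hyc)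
    refine commutatorElement_eq_one_iff_mul_comm.1 ?_
    have h1 : ⁅z, y⁆ ∈ P := mul_mem
      ((mem_normalizer_iff.1 (hMP (zc_le_M H M hM hCM hz)) y).1 hy) (inv_mem hy)
    have h2 : ⁅z, y⁆ ∈ qc r H := by
      have := mul_mem hz.1 ((mem_normalizer_iff.1 (le_normalizer_qc r H hyH) z⁻¹).1 (inv_mem hz.1))
      simpa [commutatorElement_def, mul_assoc] using this
    exact eq_one_of_pgroups hpr hP (isPGroup_qc H) h1 h2

include hR hXR hMR in
/-- The main lemma: invariant `q`-subgroups of `R` lie in `O_{π'}(R)`. -/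
theorem le_core (hF2 : 2 ≤ (Nat.card (fittingOf H)).primeFactors.card) {q : ℕ} [Fact q.Prime]
    (hq : ¬ q ∣ Nat.card (fittingOf H)) {Y : Subgroup G} (hYR : Y ≤ R) (hY : IsPGroup q Y)
    (hMY : M ≤ normalizer (Y : Set G)) :
    Y ≤ piCoreOf (primesNotDvd (Nat.card (fittingOf H))) R := by
  set n := Nat.card (fittingOf H) with hn
  set π := primesNotDvd n with hπ
  set N := piCore π R with hN
  haveI : N.Characteristic := characteristic_piCore π
  set O := piCoreOf π R with hO
  have hOR : O ≤ R := map_subtype_le _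
  have hOn : normalizer (R : Set G) ≤ normalizer (O : Set G) := le_normalizer_map_char N
  haveI := hR
  set f := QuotientGroup.mk' N
  have hYc : (Nat.card Y).Coprime n := by
    obtain ⟨k, hk⟩ := IsPGroup.iff_card.1 hY
    rw [hk]
    exact ((Fact.out : q.Prime).coprime_iff_not_dvd.2 hq).pow_left k
  have hNπ : ∀ s : ℕ, s.Prime → s ∣ Nat.card N → s ∈ π :=
    Cfsg.Agent.S3743.isPi_of_sup _ (fun N hN => hN.1) fun N hN => hN.2
  have hOc : (Nat.card O).Coprime n := Nat.coprime_of_dvd fun s hs h1 h2 => by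
    rw [hO, piCoreOf, card_map_of_injective R.subtype_injective] at h1
    exact (hNπ s hs h1).2 h2
  -- the cores of the quotient only involve primes of `F`
  have hcore : ∀ s : ℕ, s.Prime → ¬ s ∣ n → Cfsg.pCore s (R ⧸ N) = ⊥ := by
    intro s hs hsn
    haveI := Fact.mk hs
    set W := (Cfsg.pCore s (R ⧸ N)).comap f
    haveI : W.Normal := (Solvable.pCore_normal s).comap f
    have hW : W ≤ N := by
      refine le_sSup ⟨inferInstance, fun t ht htd => ?_⟩
      rw [← (N.subgroupOf W).card_mul_index] at htd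
      rcases ht.dvd_mul.1 htd with h | h
      · exact hNπ t ht (h.trans (by
          rw [Nat.card_congr (subgroupOfEquivOfLe (?_ : N ≤ W)).toEquiv]
          intro x hx
          exact mem_comap.2 (by
            rw [show f x = 1 from (QuotientGroup.eq_one_iff x).2 hx]; exact one_mem _)))
      · have h2 : (N.subgroupOf W).index ∣ Nat.card (Cfsg.pCore s (R ⧸ N)) := by
          have h3 : N.subgroupOf W = (f.subgroupComap (Cfsg.pCore s (R ⧸ N))).ker := by
            ext x
            rw [MonoidHom.mem_ker, mem_subgroupOf, ← QuotientGroup.eq_one_iff]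
            exact ⟨fun h => Subtype.ext h, fun h => congrArg Subtype.val h⟩
          rw [h3, index_ker]
          exact card_subgroup_dvd_card _
        obtain ⟨k, hk⟩ := IsPGroup.iff_card.1 (Solvable.isPGroup_pCore (G := R ⧸ N) s)
        rw [hk] at h2
        rw [(Nat.prime_dvd_prime_iff_eq ht hs).1 (ht.dvd_of_dvd_pow (h.trans h2))]
        exact ⟨hs, hsn⟩
    refine eq_bot_iff.2 fun x hx => ?_
    obtain ⟨x, rfl⟩ := QuotientGroup.mk'_surjective N x
    exact mem_bot.2 ((QuotientGroup.eq_one_iff x).2 (hW (mem_comap.2 hx)))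
  -- `Y` centralizes every core of the quotient
  have hcent : ∀ p : ℕ, p.Prime → p ∣ n → ∀ y ∈ Y, ∀ k : R, f k ∈ Cfsg.pCore p (R ⧸ N) →
      ⁅y, (k : G)⁆ ∈ O := by
    intro p hpp hpn
    haveI := Fact.mk hpp
    obtain ⟨r, hr, hrp⟩ : ∃ r ∈ n.primeFactors, r ≠ p := Finset.exists_mem_ne hF2 p
    obtain ⟨hr, hrn, -⟩ := Nat.mem_primeFactors.1 hr
    haveI := Fact.mk hr
    haveI : (Cfsg.pCore p (R ⧸ N)).Characteristic := characteristic_iff_map_le.2 fun φ =>
      Solvable.le_pCore p ((Solvable.pCore_normal p).map _ φ.surjective)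
        ((Solvable.isPGroup_pCore p).map _)
    haveI := comap_char N (Cfsg.pCore p (R ⧸ N))
    set W := (Cfsg.pCore p (R ⧸ N)).comap f
    set K := W.map R.subtype
    have hKn : normalizer (R : Set G) ≤ normalizer (K : Set G) := le_normalizer_map_char W
    have hNW : N ≤ W := fun x hx =>
      mem_comap.2 (by rw [show f x = 1 from (QuotientGroup.eq_one_iff x).2 hx]; exact one_mem _)
    have hOK : O ≤ K := map_mono hNW
    have hWc : ∀ S : Sylow p K, ∀ x ∈ K,
        ∃ a ∈ (S : Subgroup K).map K.subtype, ∃ b ∈ O, x = a * b := by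
      intro S
      have hidx : ∃ k, (O.subgroupOf K).index = p ^ k := by
        change ∃ k, O.relIndex K = p ^ k
        rw [hO, piCoreOf, relIndex_map_map_of_injective _ _ R.subtype_injective, relIndex,
          show N.subgroupOf W = (f.subgroupComap (Cfsg.pCore p (R ⧸ N))).ker by
            ext x
            rw [MonoidHom.mem_ker, mem_subgroupOf, ← QuotientGroup.eq_one_iff]
            exact ⟨fun h => Subtype.ext h, fun h => congrArg Subtype.val h⟩, index_ker]
        exact IsPGroup.iff_card.1 ((Solvable.isPGroup_pCore (G := R ⧸ N) p).to_subgroup _)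
      obtain ⟨j, hj⟩ := hidx
      haveI : (O.subgroupOf K).Normal := (normal_subgroupOf_iff_le_normalizer hOK).2
        ((map_subtype_le W).trans (le_normalizer.trans hOn))
      have htop : (O.subgroupOf K) ⊔ (S : Subgroup K) = ⊤ := by
        rw [← index_eq_one]
        exact Nat.eq_one_of_dvd_coprimes
          (Nat.Coprime.pow_left j (hpp.coprime_iff_not_dvd.2 S.not_dvd_index))
          (hj ▸ index_dvd_of_le le_sup_left) (index_dvd_of_le le_sup_right)
      intro x hx
      obtain ⟨a, ha, b, hb, he⟩ := (Solvable.mem_sup_of_le_normalizer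
        (show (S : Subgroup K) ≤ normalizer (O.subgroupOf K : Set K) from le_normalizer_of_normal)).1
        (show (⟨x, hx⟩ : K) ∈ (S : Subgroup K) ⊔ O.subgroupOf K by rw [sup_comm, htop]; trivial)
      exact ⟨a, mem_map_of_mem _ ha, b, mem_subgroupOf.1 hb, (congrArg Subtype.val he).symm⟩
    -- an `M`-invariant Sylow subgroup
    letI := MulAction.compHom (Subgroup G) (MulAut.conj : G →* MulAut G)
    have hMO : (Nat.card M).Coprime (Nat.card O) :=
      hOc.symm.coprime_dvd_left (card_dvd_of_le hM)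
    have hMs : Group.IsSolvable M := by
      haveI := nilpotent_fitting H
      haveI : Group.IsSolvable (fittingOf H) := IsNilpotent.to_isSolvable
      exact Group.isSolvable_of_isSolvable_injective (inclusion_injective hM)
    obtain ⟨P, ⟨T, rfl⟩, hfix⟩ := SZ.exists_fixed (hMR.trans hOn) hMO (Or.inl hMs)
      (Set.range fun T : Sylow p K => (T : Subgroup K).map K.subtype) (Set.range_nonempty _)
      (by
        rintro a ha _ ⟨T, rfl⟩
        exact CoprimeAct.conj_smul_sylow_map (hKn (hMR ha)) T)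
      (by
        rintro _ ⟨T, rfl⟩ _ ⟨U, rfl⟩
        obtain ⟨k, hk⟩ := MulAction.exists_smul_eq K T U
        obtain ⟨a, ha, b, hb, he⟩ := hWc T ((k⁻¹ : K) : G) (k⁻¹).2
        refine ⟨b⁻¹, inv_mem hb, ?_⟩
        have h1 : MulAut.conj (k : G) • (T : Subgroup K).map K.subtype =
            (U : Subgroup K).map K.subtype := by
          rw [← hk]
          exact (SZ.conj_smul_map K.subtype k (T : Subgroup K)).symm
        rw [show (k : G) = b⁻¹ * a⁻¹ by
          rw [← mul_inv_rev, ← he, Subgroup.coe_inv, inv_inv], map_mul, mul_smul,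
          SZ.conj_smul_self_of_mem (inv_mem ha)] at h1
        exact h1)
      (by
        rintro a ha _ ⟨T, rfl⟩
        exact CoprimeAct.conj_smul_sylow_map (hKn (le_normalizer (hOR ha))) T)
    have hMP : M ≤ normalizer ((T : Subgroup K).map K.subtype : Set G) := fun m hm =>
      SZ.conj_smul_eq_iff_mem_normalizer.1 (hfix m hm)
    set Z := zc r H
    have hZM : Z ≤ M := zc_le_M H M hM hCM
    have hZP := zc_centralizes H hHmax M hM hCM (Ne.symm hrp) hpn (T.isPGroup'.map K.subtype) hMP
    have hZK : ⁅Z, K⁆ ≤ O := commutator_le.2 fun z hz x hx => by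
      obtain ⟨a, ha, b, hb, rfl⟩ := hWc T x hx
      have h1 : ⁅z, b⁆ ∈ O :=
        mul_mem ((mem_normalizer_iff.1 (hOn (hMR (hZM hz))) b).1 hb) (inv_mem hb)
      have h2 : ⁅z, a * b⁆ = a * ⁅z, b⁆ * a⁻¹ := by
        have h3 : z * a = a * z := (mem_centralizer_iff.1 (hZP hz) a ha).symm
        simp only [commutatorElement_def, mul_inv_rev, ← mul_assoc, h3]
      rw [h2]
      exact (mem_normalizer_iff.1
        (hOn (le_normalizer (map_subtype_le W (map_subtype_le (T : Subgroup K) ha)))) _).1 h1
    have hrq : r ≠ q := fun e => hq (e ▸ hrn)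
    have hYZ : ⁅Y, Z⁆ = Y := by
      have hcop : (Nat.card Z).Coprime (Nat.card Y) :=
        IsPGroup.coprime_card_of_ne r q hrq Z Y ((isPGroup_qc H).to_le (zc_le H)) hY
      have hsol : Group.IsSolvable Z ∨ Group.IsSolvable Y := Or.inr
        (Group.isSolvable_of_isSolvable_injective (inclusion_injective hYR))
      have h := CoprimeAct.commutator_sup_centralizer (hZM.trans hMY) hcop hsol
      have hbot : Y ⊓ centralizer (Z : Set G) = ⊥ := eq_bot_iff.2
        ((inf_le_inf_left Y (centralizer_zc_le H hHmax hrn)).trans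
          (inf_eq_bot H hHmax M hM hCM R hR hXR hrn hYR hMY hYc).le)
      rwa [hbot, sup_bot_eq] at h
    have hYK : Y ≤ normalizer (K : Set G) := hYR.trans (le_normalizer.trans hKn)
    have hYO : Y ≤ normalizer (O : Set G) := hYR.trans (le_normalizer.trans hOn)
    have hall : ⁅⁅Y, Z⁆, K⁆ ≤ O := by
      refine Kinf.three_subgroup_mod hYO (hZM.trans (hMR.trans hOn))
        ((map_subtype_le W).trans (le_normalizer.trans hOn)) ?_ ?_
      · refine (commutator_mono hZK le_rfl).trans ?_
        rw [commutator_comm]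
        exact le_normalizer_iff_commutator_le_right.1 hYO
      · refine (commutator_mono (?_ : ⁅K, Y⁆ ≤ K) le_rfl).trans ((commutator_comm K Z).trans_le hZK)
        exact le_normalizer_iff_commutator_le_left.1 hYK
    rw [hYZ] at hall
    intro y hy k hk
    exact hall (commutator_mem_commutator hy (mem_map_of_mem _ (mem_comap.2 hk)))
  intro y hy
  set yR : R := ⟨y, hYR hy⟩
  have hF : f yR ∈ Cfsg.fittingSubgroup (R ⧸ N) := by
    haveI : Group.IsSolvable (R ⧸ N) :=
      Group.isSolvable_of_surjective (QuotientGroup.mk'_surjective N)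
    refine Fitting.centralizer_fittingSubgroup_le_of_solvable ?_
    rw [Solvable.fittingSubgroup_eq_iSup_pCore, iSup_eq_closure, centralizer_closure]
    refine mem_centralizer_iff.2 fun x hx => ?_
    obtain ⟨s, hs⟩ := Set.mem_iUnion.1 hx
    by_cases hsn : (s : ℕ) ∣ n
    · obtain ⟨k, rfl⟩ := QuotientGroup.mk'_surjective N x
      obtain ⟨a, ha, hae⟩ := hcent _ s.2 hsn y hy k hs
      have h1 : f ⁅yR, k⁆ = 1 := by
        rw [← show a = ⁅yR, k⁆ from R.subtype_injective hae]
        exact (QuotientGroup.eq_one_iff a).2 ha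
      rw [map_commutatorElement, commutatorElement_eq_one_iff_mul_comm] at h1
      exact h1.symm
    · rw [hcore _ s.2 hsn, SetLike.mem_coe, mem_bot] at hs
      rw [hs, one_mul, mul_one]
  obtain ⟨j, hj⟩ : ∃ j, orderOf (f yR) = q ^ j := by
    obtain ⟨k, hk⟩ := hY ⟨y, hy⟩
    have hk' : f yR ^ q ^ k = 1 := by
      rw [← map_pow, show yR ^ q ^ k = 1 from Subtype.ext (congrArg Subtype.val hk :), map_one]
    obtain ⟨j, -, hj⟩ := (Nat.dvd_prime_pow Fact.out).1 (orderOf_dvd_of_pow_eq_one hk')
    exact ⟨j, hj⟩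
  have h1 := FGSA.RankTwoSolvable.mem_pCore_of_mem_fitting Fact.out hj hF
  rw [hcore q Fact.out hq, mem_bot] at h1
  exact ⟨yR, (QuotientGroup.eq_one_iff _).1 h1, rfl⟩

include hR hXR hMR in
theorem main (hF2 : 2 ≤ (Nat.card (fittingOf H)).primeFactors.card) {q : ℕ} [Fact q.Prime]
    (hq : ¬ q ∣ Nat.card (fittingOf H)) :
    ∃! Q : Subgroup G, Q ∈ Cfsg.maxInvSubgroups R M {q} ∧
      (∀ Q' : Subgroup G, Q' ∈ Cfsg.maxInvSubgroups R M {q} →
        Q' ≤ piCoreOf (primesNotDvd (Nat.card (fittingOf H))) R ∧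
        ¬ q ∣ Q'.relIndex (piCoreOf (primesNotDvd (Nat.card (fittingOf H))) R)) := by
  set n := Nat.card (fittingOf H) with hn
  set O := piCoreOf (primesNotDvd n) R with hO
  haveI := characteristic_piCore (X := R) (primesNotDvd n)
  have hMO : M ≤ normalizer (O : Set G) := hMR.trans (le_normalizer_map_char _)
  have hOc : (Nat.card O).Coprime n := Nat.coprime_of_dvd fun s hs h1 h2 => by
    rw [hO, piCoreOf, card_map_of_injective R.subtype_injective] at h1
    exact (Cfsg.Agent.S3743.isPi_of_sup {N : Subgroup R | N.Normal ∧ ∀ p : ℕ, p.Prime → p ∣ Nat.card N →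
      p ∈ primesNotDvd n} (fun N hN => hN.1) (fun N hN => hN.2) s hs h1).2 h2
  have hcop : (Nat.card M).Coprime (Nat.card O) :=
    hOc.symm.coprime_dvd_left (card_dvd_of_le hM)
  have hsol : Group.IsSolvable M ∨ Group.IsSolvable O := by
    haveI := hR
    exact Or.inr (Group.isSolvable_of_isSolvable_injective (inclusion_injective (map_subtype_le _)))
  obtain ⟨r, hr⟩ : ∃ r, r ∈ n.primeFactors :=
    Finset.card_pos.1 (lt_of_lt_of_le two_pos hF2)
  obtain ⟨hrp, hrn, -⟩ := Nat.mem_primeFactors.1 hr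
  haveI := Fact.mk hrp
  obtain ⟨P, hP⟩ := CoprimeAct.exists_invariant_sylow hMO hcop hsol q
  set Q := (P : Subgroup O).map O.subtype
  have hpi : ∀ {Y : Subgroup G}, (∀ s : ℕ, s.Prime → s ∣ Nat.card Y → s ∈ ({q} : Set ℕ)) →
      IsPGroup q Y := fun {Y} h => by
    exact IsPGroup.of_card (Nat.eq_prime_pow_of_unique_prime_dvd Nat.card_pos.ne'
      fun {s} hs hd => h s hs hd)
  have hQ : Q ∈ invSubgroups R M {q} := by
    refine ⟨(map_subtype_le _).trans (map_subtype_le _), fun s hs hd => ?_, hP⟩
    obtain ⟨k, hk⟩ := IsPGroup.iff_card.1 (P.isPGroup'.map O.subtype)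
    exact (Nat.prime_dvd_prime_iff_eq hs Fact.out).1 (hs.dvd_of_dvd_pow (hk ▸ hd))
  have hall : ∀ Y ∈ invSubgroups R M {q}, Y ≤ Q := by
    rintro Y ⟨hYR, hYq, hYM⟩
    have hYO := le_core H hHmax M hM hCM R hR hMR hXR hF2 hq hYR (hpi hYq) hYM
    obtain ⟨P', hYP, hP'⟩ := CoprimeAct.exists_invariant_sylow_ge hMO hcop hsol q hYO (hpi hYq) hYM
    obtain ⟨c, hc, he⟩ := CoprimeAct.invariant_sylow_conj hMO hcop hsol q P' P hP' hP
    have hc1 : c = 1 := Subtype.ext (eq_one_of_centralizing H hHmax M hM hCM R hR hXR hrn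
      (map_subtype_le _ c.2) hc (hOc.coprime_dvd_left (O.orderOf_dvd_natCard c.2)))
    rw [hc1, map_one, one_smul] at he
    exact hYP.trans (map_mono he.le)
  have hmax : ∀ Q' ∈ maxInvSubgroups R M {q}, Q' = Q := fun Q' hQ' =>
    (hQ'.2 Q hQ (hall Q' hQ'.1)).symm
  refine ⟨Q, ⟨⟨hQ, fun Y hY h => le_antisymm (hall Y hY) h⟩, fun Q' hQ' => ?_⟩, fun Q' hQ' =>
    hmax Q' hQ'.1⟩
  rw [hmax Q' hQ']
  refine ⟨map_subtype_le _, ?_⟩
  rw [relIndex, subgroupOf, comap_map_eq_self_of_injective O.subtype_injective]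
  exact P.not_dvd_index

end CfsgLib.MaxLocalFitting
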